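import Groth.Agent.FEtRank.Split
import Groth.Prelude.Def_FlatMod2

/-!
Sections of a finite étale cover of degree n over a connected scheme.
-/

set_option autoImplicit false
set_option backward.isDefEq.respectTransparency false
set_option backward.isDefEq.respectTransparency.types false
set_option linter.style.haveILetI false

universe u

open CategoryTheory CategoryTheory.Limits AlgebraicGeometry

noncomputable section

namespace Groth.Agent.FEtSections

open Groth.Agent.FEtGal Groth.Agent.FEtRank

variable {X' : Scheme.{u}} [ConnectedSpace X']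

theorem secPt_injective {Z : FEt.Cat X'} {Ω : Type u} [Field Ω] [IsAlgClosed Ω]
    (ξ : Spec (CommRingCat.of Ω) ⟶ X') :
    Function.Injective fun s : one X' ⟶ Z => secPt s ξ := by
  intro a b h
  haveI := galoisCategory ξ
  haveI := fiberFunctor ξ
  refine (fibre ξ).map_injective (ConcreteCategory.hom_ext _ _ fun x => ?_)
  haveI := subsingleton_fiber_one (X := X') ξ
  rw [Subsingleton.elim (α := FEt.fiberObj ξ (one X')) x ⟨ξ, Category.comp_id ξ⟩]
  exact h

variable {X Y : Scheme.{u}} (f : X ⟶ Y) [IsFinite f] [Etale f] (φ : X' ⟶ Y)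

/-- the base change as a cover of `X'` -/
def cover : FEt.Cat X' :=
  MorphismProperty.Over.mk ⊤ (pullback.snd f φ)
    ⟨MorphismProperty.pullback_snd _ _ inferInstance, MorphismProperty.pullback_snd _ _ inferInstance⟩

omit [ConnectedSpace X'] in
/-- morphisms over `Y` are sections of the base change -/
def homEquiv : (Over.mk φ ⟶ Over.mk f) ≃ (one X' ⟶ cover f φ) where
  toFun s := MorphismProperty.Over.homMk (pullback.lift s.left (𝟙 X')
    ((Over.w s).trans (Category.id_comp φ).symm)) (pullback.lift_snd _ _ _)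
  invFun t := Over.homMk (t.left ≫ pullback.fst f φ) (by
    have h : t.left ≫ pullback.snd f φ = 𝟙 X' := MorphismProperty.Over.w t
    change (t.left ≫ pullback.fst f φ) ≫ f = φ
    rw [Category.assoc, pullback.condition, reassoc_of% h]
    exact Category.id_comp φ)
  left_inv s := Over.OverMorphism.ext (pullback.lift_fst _ _ _)
  right_inv t := hom_ext_left (pullback.hom_ext (pullback.lift_fst _ _ _)
    ((pullback.lift_snd _ _ _).trans (MorphismProperty.Over.w t).symm))

variable {n : ℕ}

theorem main (hdeg : FlatMod.IsFinLocFreeOfRank n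
      ((Scheme.Modules.pushforward f).obj (Coh.structureModule X))) [Nonempty X'] :
    Finite (Over.mk φ ⟶ Over.mk f) ∧ Nat.card (Over.mk φ ⟶ Over.mk f) ≤ n ∧
      (Nat.card (Over.mk φ ⟶ Over.mk f) = n ↔ ∃ e : pullback f φ ≅ ∐ fun _ : Fin n => X',
        e.hom ≫ Sigma.desc (fun _ : Fin n => 𝟙 X') = pullback.snd f φ) := by
  classical
  have hcard : ∀ (Ω : Type u) [Field Ω] [IsAlgClosed Ω] (ξ : Spec (CommRingCat.of Ω) ⟶ X'),
      Nat.card (FEt.fiberObj ξ (cover f φ)) = n := fun Ω _ _ ξ => by
    rw [natCard_fiber ξ (cover f φ)]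
    exact (Scheme.Hom.finrank_pullback_snd f φ _).trans
      (finrank_eq_of_isFinLocFreeOfRank f hdeg _)
  obtain ⟨x₀⟩ := ‹Nonempty X'›
  obtain ⟨Ω, _, _, ξ, -⟩ := exists_geomPt x₀
  haveI : Finite (FEt.fiberObj ξ (cover f φ)) := Groth.Agent.S0294.result ξ _
  have hinj : ∀ (Ω : Type u) [Field Ω] [IsAlgClosed Ω] (ξ : Spec (CommRingCat.of Ω) ⟶ X'),
      Function.Injective fun s => secPt (homEquiv f φ s) ξ := fun Ω _ _ ξ =>
    (secPt_injective ξ).comp (homEquiv f φ).injective
  haveI hfin : Finite (Over.mk φ ⟶ Over.mk f) := Finite.of_injective _ (hinj Ω ξ)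
  have hle : Nat.card (Over.mk φ ⟶ Over.mk f) ≤ n :=
    (Nat.card_le_card_of_injective _ (hinj Ω ξ)).trans_eq (hcard Ω ξ)
  refine ⟨hfin, hle, fun hn => ?_, fun ⟨e, he⟩ => le_antisymm hle ?_⟩
  · let b : Fin n ≃ (Over.mk φ ⟶ Over.mk f) := (Finite.equivFinOfCardEq hn).symm
    let s : Fin n → (one X' ⟶ cover f φ) := fun i => homEquiv f φ (b i)
    have hsplit : ∀ (Ω : Type u) [Field Ω] [IsAlgClosed Ω] (η : Spec (CommRingCat.of Ω) ⟶ X'),
        SplitAt s η := fun Ω _ _ η => by
      haveI : Finite (FEt.fiberObj η (cover f φ)) := Groth.Agent.S0294.result η _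
      exact (Nat.bijective_iff_injective_and_card _).2
        ⟨(hinj Ω η).comp b.injective, by rw [hcard Ω η, Nat.card_eq_fintype_card, Fintype.card_fin]⟩
    haveI hi := isIso_of_forall_bijective (Sigma.desc s) fun Ω _ _ η => bijective_desc s η (hsplit Ω η)
    obtain ⟨e, he⟩ := exists_coprod_iso s hi
    refine ⟨e, ?_⟩
    rw [← cancel_epi e.inv, Iso.inv_hom_id_assoc]
    refine Sigma.hom_ext _ _ fun i => ?_
    rw [Sigma.ι_desc, reassoc_of% (he i)]
    exact (MorphismProperty.Over.w (s i)).symm
  · let σ : Fin n → (Over.mk φ ⟶ Over.mk f) := fun i =>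
      (homEquiv f φ).symm (MorphismProperty.Over.homMk (Sigma.ι (fun _ : Fin n => X') i ≫ e.inv) (by
        change (Sigma.ι (fun _ : Fin n => X') i ≫ e.inv) ≫ pullback.snd f φ = 𝟙 X'
        rw [← he]
        simp))
    have hσ : Function.Injective σ := fun i j hij => by
      by_contra hne
      have h := congrArg (fun t : one X' ⟶ cover f φ => t.left) ((homEquiv f φ).symm.injective hij)
      have h' : Sigma.ι (fun _ : Fin n => X') i = Sigma.ι (fun _ : Fin n => X') j :=
        (cancel_mono e.inv).1 h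
      exact Set.disjoint_left.1
        (TopologicalSpace.Opens.coe_disjoint.2 (disjoint_opensRange_sigmaι (fun _ : Fin n => X') i j hne))
        ⟨x₀, rfl⟩ ⟨x₀, by rw [h']⟩
    simpa using Nat.card_le_card_of_injective σ hσ

end Groth.Agent.FEtSections
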